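import Mathlib

/-!
# The Lie ring associated with the lower central series of a group
-/

set_option autoImplicit false

namespace CfsgLib.Higman

open Subgroup
open scoped commutatorElement

variable (G : Type*) [Group G]

/-- The terms of the lower central series (`gam G 0 = ⊤`). -/
abbrev gam (i : ℕ) : Subgroup G := (⊤ : Subgroup G).lowerCentralSeries i

variable {G}

theorem gam_succ (i : ℕ) : gam G (i + 1) = ⁅gam G i, ⊤⁆ := rfl

theorem gam_anti {i j : ℕ} (h : i ≤ j) : gam G j ≤ gam G i :=
  Subgroup.lowerCentralSeries_antitone _ h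

/-- The three subgroups lemma relative to a normal subgroup. -/
theorem three_subgroups_le (N H₁ H₂ H₃ : Subgroup G) [N.Normal] (h1 : ⁅⁅H₂, H₃⁆, H₁⁆ ≤ N)
    (h2 : ⁅⁅H₃, H₁⁆, H₂⁆ ≤ N) : ⁅⁅H₁, H₂⁆, H₃⁆ ≤ N := by
  have key : ∀ H : Subgroup G, H ≤ N ↔ H.map (QuotientGroup.mk' N) = ⊥ := fun H => by
    rw [Subgroup.map_eq_bot_iff, QuotientGroup.ker_mk']
  rw [key, map_commutator, map_commutator] at h1 h2 ⊢
  exact commutator_commutator_eq_bot_of_rotate h1 h2

theorem commutator_gam_le : ∀ (j i : ℕ), ⁅gam G i, gam G j⁆ ≤ gam G (i + j + 1)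
  | 0, i => le_of_eq rfl
  | j + 1, i => by
    rw [commutator_comm, gam_succ j]
    refine three_subgroups_le _ _ _ _ ?_ ?_
    · rw [commutator_comm ⊤ (gam G i)]
      refine (commutator_gam_le j (i + 1)).trans (le_of_eq ?_)
      rw [show i + 1 + j + 1 = i + (j + 1) + 1 by omega]
    · refine le_trans (commutator_mono (commutator_gam_le j i) le_rfl) (le_of_eq ?_)
      rw [← gam_succ, show i + j + 1 + 1 = i + (j + 1) + 1 by omega]

theorem comm_mem {i j : ℕ} {g h : G} (hg : g ∈ gam G i) (hh : h ∈ gam G j) :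
    ⁅g, h⁆ ∈ gam G (i + j + 1) :=
  commutator_gam_le j i (commutator_mem_commutator hg hh)

variable (G)

/-- The factors of the lower central series. -/
abbrev Q (i : ℕ) : Type _ := ↥(gam G i) ⧸ (gam G (i + 1)).subgroupOf (gam G i)

instance instCommGroupQ (i : ℕ) : CommGroup (Q G i) where
  mul_comm := by
    intro a b
    obtain ⟨x, rfl⟩ := QuotientGroup.mk'_surjective _ a
    obtain ⟨y, rfl⟩ := QuotientGroup.mk'_surjective _ b
    rw [← map_mul, ← map_mul, QuotientGroup.mk'_apply, QuotientGroup.mk'_apply, QuotientGroup.eq,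
      Subgroup.mem_subgroupOf]
    push_cast
    have h : ((x : G) * y)⁻¹ * (y * x) = ⁅(y : G)⁻¹, (x : G)⁻¹⁆ := by
      simp [commutatorElement_def, mul_assoc]
    rw [h]
    exact gam_anti (by omega) (comm_mem (inv_mem y.2) (inv_mem x.2))

/-- The additive group of the Lie ring. -/
abbrev Gr : Type _ := DirectSum ℕ fun i => Additive (Q G i)

variable {G}

open scoped Classical in
/-- The image in degree `i` of an element of the group. -/
noncomputable def el (i : ℕ) (g : G) : Gr G :=
  if h : g ∈ gam G i then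
    DirectSum.of (fun i => Additive (Q G i)) i
      (Additive.ofMul (QuotientGroup.mk (⟨g, h⟩ : gam G i)))
  else 0

theorem el_of_mem {i : ℕ} {g : G} (h : g ∈ gam G i) : el i g =
    DirectSum.of (fun i => Additive (Q G i)) i
      (Additive.ofMul (QuotientGroup.mk (⟨g, h⟩ : gam G i))) := dif_pos h

theorem el_mul {i : ℕ} {g h : G} (hg : g ∈ gam G i) (hh : h ∈ gam G i) :
    el i (g * h) = el i g + el i h := by
  rw [el_of_mem hg, el_of_mem hh, el_of_mem (mul_mem hg hh), ← map_add]
  rfl

theorem el_inv {i : ℕ} {g : G} (hg : g ∈ gam G i) : el i g⁻¹ = - el i g := by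
  rw [el_of_mem hg, el_of_mem (inv_mem hg), ← map_neg]
  rfl

theorem el_one (i : ℕ) : el i (1 : G) = 0 := by
  have h := el_mul (one_mem (gam G i)) (one_mem _)
  rwa [one_mul, left_eq_add] at h

theorem el_eq_zero_iff {i : ℕ} {g : G} (hg : g ∈ gam G i) :
    el i g = 0 ↔ g ∈ gam G (i + 1) := by
  rw [el_of_mem hg, map_eq_zero_iff _ (DirectSum.of_injective i), ofMul_eq_zero, QuotientGroup.eq_one_iff,
    Subgroup.mem_subgroupOf]

theorem el_of_mem_succ {i : ℕ} {g : G} (hg : g ∈ gam G (i + 1)) : el i g = 0 :=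
  (el_eq_zero_iff (gam_anti (Nat.le_succ i) hg)).2 hg

theorem el_conj {i : ℕ} {g : G} (hg : g ∈ gam G i) (a : G) : el i (a * g * a⁻¹) = el i g := by
  have h : a * g * a⁻¹ = ⁅a, g⁆ * g := by simp [commutatorElement_def, mul_assoc]
  have hc : ⁅a, g⁆ ∈ gam G (i + 1) := by
    have := comm_mem (i := 0) (j := i) (g := a) (Subgroup.mem_top a) hg
    rwa [Nat.zero_add] at this
  rw [h, el_mul (gam_anti (Nat.le_succ i) hc) hg, el_of_mem_succ hc, zero_add]

theorem el_comm_mul_left {i j : ℕ} {a b z : G} (ha : a ∈ gam G i) (hb : b ∈ gam G i)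
    (hz : z ∈ gam G j) :
    el (i + j + 1) ⁅a * b, z⁆ = el (i + j + 1) ⁅a, z⁆ + el (i + j + 1) ⁅b, z⁆ := by
  have h : ⁅a * b, z⁆ = a * ⁅b, z⁆ * a⁻¹ * ⁅a, z⁆ := by simp [commutatorElement_def, mul_assoc]
  rw [h, el_mul ((lowerCentralSeries_normal ⊤ _).conj_mem _ (comm_mem hb hz) a) (comm_mem ha hz),
    el_conj (comm_mem hb hz), add_comm]

theorem el_comm_swap {i j : ℕ} {g h : G} (hg : g ∈ gam G i) (hh : h ∈ gam G j) :
    el (i + j + 1) ⁅h, g⁆ = - el (i + j + 1) ⁅g, h⁆ := by
  rw [← el_inv (comm_mem hg hh), commutatorElement_inv]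

theorem el_comm_mul_right {i j : ℕ} {a y z : G} (ha : a ∈ gam G i) (hy : y ∈ gam G j)
    (hz : z ∈ gam G j) :
    el (i + j + 1) ⁅a, y * z⁆ = el (i + j + 1) ⁅a, y⁆ + el (i + j + 1) ⁅a, z⁆ := by
  have h := el_comm_mul_left hy hz ha
  rw [Nat.add_comm j i, el_comm_swap ha (mul_mem hy hz), el_comm_swap ha hy,
    el_comm_swap ha hz] at h
  rw [← neg_inj, h, neg_add]

theorem el_comm_eq_zero {i j : ℕ} {g h : G} (hg : g ∈ gam G i) (hh : h ∈ gam G j)
    (h' : g ∈ gam G (i + 1) ∨ h ∈ gam G (j + 1)) : el (i + j + 1) ⁅g, h⁆ = 0 := by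
  refine el_of_mem_succ ?_
  rcases h' with h' | h'
  · have := comm_mem h' hh
    rwa [show i + 1 + j + 1 = i + j + 1 + 1 by omega] at this
  · have := comm_mem hg h'
    rwa [show i + (j + 1) + 1 = i + j + 1 + 1 by omega] at this

variable (G)

/-- The commutator on representatives, as a homomorphism in the second variable. -/
noncomputable def commRep (i j : ℕ) (g : gam G i) : Q G j →* Multiplicative (Gr G) :=
  QuotientGroup.lift _
    { toFun := fun h : gam G j => Multiplicative.ofAdd (el (i + j + 1) ⁅(g : G), (h : G)⁆)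
      map_one' := by simp [el_one]
      map_mul' := fun a b => by
        rw [Subgroup.coe_mul, el_comm_mul_right g.2 a.2 b.2, ofAdd_add] }
    fun h hh => by
      simp [el_comm_eq_zero g.2 h.2 (Or.inr hh)]

theorem commRep_mk (i j : ℕ) (g : gam G i) (h : gam G j) :
    commRep G i j g (QuotientGroup.mk h) =
      Multiplicative.ofAdd (el (i + j + 1) ⁅(g : G), (h : G)⁆) := rfl

/-- The commutator on the factors. -/
noncomputable def commQ (i j : ℕ) : Q G i →* (Q G j →* Multiplicative (Gr G)) :=
  QuotientGroup.lift _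
    { toFun := commRep G i j
      map_one' := by
        refine MonoidHom.ext fun x => ?_
        obtain ⟨h, rfl⟩ := QuotientGroup.mk_surjective x
        rw [commRep_mk, MonoidHom.one_apply, Subgroup.coe_one, commutatorElement_one_left, el_one,
          ofAdd_zero]
      map_mul' := fun a b => by
        refine MonoidHom.ext fun x => ?_
        obtain ⟨h, rfl⟩ := QuotientGroup.mk_surjective x
        rw [MonoidHom.mul_apply, commRep_mk, commRep_mk, commRep_mk, Subgroup.coe_mul,
          el_comm_mul_left a.2 b.2 h.2, ofAdd_add] }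
    fun a ha => by
      refine MonoidHom.ext fun x => ?_
      obtain ⟨h, rfl⟩ := QuotientGroup.mk_surjective x
      show commRep G i j a (QuotientGroup.mk h) = _
      rw [commRep_mk, MonoidHom.one_apply, el_comm_eq_zero a.2 h.2 (Or.inl ha), ofAdd_zero]

/-- The bracket on homogeneous components. -/
noncomputable def brComp (i j : ℕ) : Additive (Q G i) →+ Additive (Q G j) →+ Gr G where
  toFun a := MonoidHom.toAdditiveLeft (commQ G i j a.toMul)
  map_zero' := AddMonoidHom.ext fun x => by
    show Multiplicative.toAdd (commQ G i j 1 x.toMul) = 0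
    rw [map_one, MonoidHom.one_apply, toAdd_one]
  map_add' a b := AddMonoidHom.ext fun x => by
    show Multiplicative.toAdd (commQ G i j (a.toMul * b.toMul) x.toMul) =
      Multiplicative.toAdd (commQ G i j a.toMul x.toMul) +
        Multiplicative.toAdd (commQ G i j b.toMul x.toMul)
    rw [map_mul, MonoidHom.mul_apply, toAdd_mul]

/-- The bracket. -/
noncomputable def br : Gr G →+ Gr G →+ Gr G :=
  DirectSum.toAddMonoid fun i => (DirectSum.toAddMonoid fun j => (brComp G i j).flip).flip

variable {G}

theorem br_el_el {i j : ℕ} {g h : G} (hg : g ∈ gam G i) (hh : h ∈ gam G j) :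
    br G (el i g) (el j h) = el (i + j + 1) ⁅g, h⁆ := by
  rw [el_of_mem hg, el_of_mem hh, br, DirectSum.toAddMonoid_of, AddMonoidHom.flip_apply,
    DirectSum.toAddMonoid_of]
  rfl

theorem gr_induction {P : Gr G → Prop} (zero : P 0) (mem : ∀ i g, g ∈ gam G i → P (el i g))
    (add : ∀ x y, P x → P y → P (x + y)) (x : Gr G) : P x := by
  induction x using DirectSum.induction_on with
  | zero => exact zero
  | of i a =>
    obtain ⟨⟨g, hg⟩, hga⟩ := QuotientGroup.mk_surjective (Additive.toMul a)
    have := mem i g hg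
    rwa [el_of_mem hg, hga, ofMul_toMul] at this
  | add x y hx hy => exact add x y hx hy

theorem br_skew (x y : Gr G) : br G x y + br G y x = 0 := by
  induction x using gr_induction with
  | zero => simp
  | mem i g hg =>
    induction y using gr_induction with
    | zero => simp
    | mem j h hh =>
      rw [br_el_el hg hh, br_el_el hh hg, Nat.add_comm j i, el_comm_swap hg hh, add_neg_cancel]
    | add y z hy hz =>
      rw [map_add, map_add, AddMonoidHom.add_apply]
      rw [add_add_add_comm, hy, hz, add_zero]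
  | add x z hx hz =>
    rw [map_add, map_add, AddMonoidHom.add_apply, add_add_add_comm, hx, hz, add_zero]

theorem br_self (x : Gr G) : br G x x = 0 := by
  induction x using gr_induction with
  | zero => simp
  | mem i g hg => rw [br_el_el hg hg, commutatorElement_self, el_one]
  | add x y hx hy =>
    simp only [map_add, AddMonoidHom.add_apply, hx, hy, zero_add, add_zero]
    exact br_skew y x

theorem hall_witt (x y z : G) : ⁅x, ⁅y, z⁆⁆ = y * (x * ⁅z, ⁅x⁻¹, y⁻¹⁆⁆⁻¹ * x⁻¹) * y⁻¹ *
    ((y * z) * ⁅y⁻¹, ⁅z⁻¹, x⁆⁆⁻¹ * (y * z)⁻¹) := by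
  simp [commutatorElement_def, mul_assoc]

theorem br_leibniz (x y z : Gr G) :
    br G x (br G y z) = br G (br G x y) z + br G y (br G x z) := by
  induction x using gr_induction with
  | zero => simp
  | mem i a ha =>
    induction y using gr_induction with
    | zero => simp
    | mem j b hb =>
      induction z using gr_induction with
      | zero => simp
      | mem k c hc =>
        have ha' := inv_mem ha
        have hb' := inv_mem hb
        have hc' := inv_mem hc
        have hskew : br G (br G (el i a) (el j b)) (el k c) =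
            - br G (el k c) (br G (el i a) (el j b)) := eq_neg_of_add_eq_zero_left (br_skew _ _)
        have hskew2 : br G (el i a) (el k c) = - br G (el k c) (el i a) :=
          eq_neg_of_add_eq_zero_left (br_skew _ _)
        have m1 : ⁅c, ⁅a⁻¹, b⁻¹⁆⁆ ∈ gam G (i + (j + k + 1) + 1) := by
          have := comm_mem hc (comm_mem ha' hb')
          rwa [show k + (i + j + 1) + 1 = i + (j + k + 1) + 1 by omega] at this
        have m2 : ⁅b⁻¹, ⁅c⁻¹, a⁆⁆ ∈ gam G (i + (j + k + 1) + 1) := by
          have := comm_mem hb' (comm_mem hc' ha)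
          rwa [show j + (k + i + 1) + 1 = i + (j + k + 1) + 1 by omega] at this
        have e1 : el (i + (j + k + 1) + 1) ⁅c, ⁅a⁻¹, b⁻¹⁆⁆ =
            br G (el k c) (br G (el i a) (el j b)) := by
          rw [show br G (el i a) (el j b) = br G (el i a⁻¹) (el j b⁻¹) by
              rw [el_inv ha, el_inv hb]; simp, br_el_el ha' hb', br_el_el hc (comm_mem ha' hb'),
            show k + (i + j + 1) + 1 = i + (j + k + 1) + 1 by omega]
        have e2 : el (i + (j + k + 1) + 1) ⁅b⁻¹, ⁅c⁻¹, a⁆⁆ =
            br G (el j b) (br G (el k c) (el i a)) := by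
          rw [show br G (el j b) (br G (el k c) (el i a)) =
              br G (el j b⁻¹) (br G (el k c⁻¹) (el i a)) by rw [el_inv hb, el_inv hc]; simp,
            br_el_el hc' ha, br_el_el hb' (comm_mem hc' ha),
            show j + (k + i + 1) + 1 = i + (j + k + 1) + 1 by omega]
        rw [hskew, hskew2, map_neg, ← e1, ← e2, br_el_el hb hc, br_el_el ha (comm_mem hb hc),
          hall_witt a b c]
        have n1 : a * ⁅c, ⁅a⁻¹, b⁻¹⁆⁆⁻¹ * a⁻¹ ∈ gam G (i + (j + k + 1) + 1) :=
          (lowerCentralSeries_normal ⊤ _).conj_mem _ (inv_mem m1) a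
        rw [el_mul ((lowerCentralSeries_normal ⊤ _).conj_mem _ n1 b)
            ((lowerCentralSeries_normal ⊤ _).conj_mem _ (inv_mem m2) (b * c)),
          el_conj n1, el_conj (inv_mem m1), el_conj (inv_mem m2), el_inv m1, el_inv m2]
      | add z w hz hw =>
        simp only [map_add, hz, hw]
        abel
    | add y w hy hw =>
      simp only [map_add, AddMonoidHom.add_apply, hy, hw]
      abel
  | add x w hx hw =>
    simp only [map_add, AddMonoidHom.add_apply, hx, hw]
    abel

noncomputable instance instLieRingGr : LieRing (Gr G) where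
  bracket x y := br G x y
  add_lie x y z := by rw [map_add, AddMonoidHom.add_apply]
  lie_add x y z := map_add (br G x) y z
  lie_self := br_self
  leibniz_lie := br_leibniz

theorem lie_el_el {i j : ℕ} {g h : G} (hg : g ∈ gam G i) (hh : h ∈ gam G j) :
    ⁅el i g, el j h⁆ = el (i + j + 1) ⁅g, h⁆ := br_el_el hg hh

/-! ### The action of an automorphism -/

theorem apply_mem_gam {i : ℕ} {g : G} (α : MulAut G) (hg : g ∈ gam G i) : α g ∈ gam G i :=
  Subgroup.mem_comap.1 ((Subgroup.lowerCentralSeries_characteristic ⊤ i).fixed α ▸ hg :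
    g ∈ (gam G i).comap (MulEquiv.toMonoidHom α))

/-- An automorphism on a component. -/
noncomputable def mapComp (α : MulAut G) (i : ℕ) : Q G i →* Multiplicative (Gr G) :=
  QuotientGroup.lift _
    { toFun := fun g : gam G i => Multiplicative.ofAdd (el i (α (g : G)))
      map_one' := by simp [el_one]
      map_mul' := fun a b => by
        rw [Subgroup.coe_mul, map_mul, el_mul (apply_mem_gam α a.2) (apply_mem_gam α b.2),
          ofAdd_add] }
    fun g hg => by
      show Multiplicative.ofAdd (el i (α (g : G))) = 1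
      have h : el i (α (g : G)) = 0 := el_of_mem_succ (apply_mem_gam α hg)
      rw [h, ofAdd_zero]

/-- An automorphism on the Lie ring. -/
noncomputable def grMap (α : MulAut G) : Gr G →+ Gr G :=
  DirectSum.toAddMonoid fun i => MonoidHom.toAdditiveLeft (mapComp α i)

theorem grMap_el (α : MulAut G) {i : ℕ} {g : G} (hg : g ∈ gam G i) :
    grMap α (el i g) = el i (α g) := by
  rw [el_of_mem hg, grMap, DirectSum.toAddMonoid_of]
  rfl

theorem grMap_lie (α : MulAut G) (x y : Gr G) : grMap α ⁅x, y⁆ = ⁅grMap α x, grMap α y⁆ := by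
  induction x using gr_induction with
  | zero => simp
  | mem i g hg =>
    induction y using gr_induction with
    | zero => simp
    | mem j h hh =>
      rw [lie_el_el hg hh, grMap_el α hg, grMap_el α hh, grMap_el α (comm_mem hg hh),
        lie_el_el (apply_mem_gam α hg) (apply_mem_gam α hh), map_commutatorElement]
    | add y w hy hw => rw [lie_add, map_add, hy, hw, map_add, lie_add]
  | add x w hx hw => rw [add_lie, map_add, hx, hw, map_add, add_lie]

end CfsgLib.Higman
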