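import Mathlib

/-!
# The Kreknin and Higman-Kreknin-Kostrikin theorems on graded Lie rings

A Lie ring spanned by components indexed by `ZMod p`, with zero component of degree `0`,
is soluble of derived length at most `2^(p-1) - 1` and nilpotent of class at most
`∑ i < 2^(p-1) - 1, (p-1)^i`.  Directness of the sum is not needed.
-/

set_option autoImplicit false
set_option linter.unusedSectionVars false

namespace CfsgLib.Higman

open AddSubgroup

variable {M : Type*} [LieRing M] {p : ℕ}

/-- Left normed monomials in a family of homogeneous sets, with their degree. -/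
inductive Mon (T : ZMod p → Set M) : ZMod p → M → Prop
  | base {i : ZMod p} {x : M} : x ∈ T i → Mon T i x
  | br {i j : ZMod p} {x y : M} : Mon T i x → y ∈ T j → Mon T (i + j) ⁅x, y⁆

/-- The homogeneous components of the Lie subring generated by `T`. -/
def gen (T : ZMod p → Set M) (i : ZMod p) : AddSubgroup M := closure {x | Mon T i x}

/-- The degree `k` part spanned by monomials of length at least two. -/
def gen2 (T : ZMod p → Set M) (k : ZMod p) : AddSubgroup M :=
  closure {z | ∃ a b u c, a + b = k ∧ Mon T a u ∧ c ∈ T b ∧ z = ⁅u, c⁆}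

/-- The derived series, component by component. -/
def der (E : ZMod p → AddSubgroup M) : ℕ → ZMod p → AddSubgroup M
  | 0 => E
  | m + 1 => fun k =>
      closure {z | ∃ i j a b, i + j = k ∧ a ∈ der E m i ∧ b ∈ der E m j ∧ z = ⁅a, b⁆}

/-- The lower central series, component by component. -/
def lcs (E : ZMod p → AddSubgroup M) : ℕ → ZMod p → AddSubgroup M
  | 0 => E
  | m + 1 => fun k =>
      closure {z | ∃ i j a b, i + j = k ∧ a ∈ lcs E m i ∧ b ∈ E j ∧ z = ⁅a, b⁆}

/-- The generators kept at step `k` of Kreknin's induction. -/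
def upper (E : ZMod p → AddSubgroup M) (k m : ℕ) (t : ZMod p) : Set M :=
  {x | k < t.val ∧ x ∈ der E m t}

theorem lie_mem_closure {S T : Set M} {U : AddSubgroup M} (h : ∀ a ∈ S, ∀ b ∈ T, ⁅a, b⁆ ∈ U)
    {a b : M} (ha : a ∈ closure S) (hb : b ∈ closure T) : ⁅a, b⁆ ∈ U := by
  induction ha using closure_induction with
  | mem a ha =>
    induction hb using closure_induction with
    | mem b hb => exact h a ha b hb
    | zero => rw [lie_zero]; exact U.zero_mem
    | add b c _ _ h1 h2 => rw [lie_add]; exact U.add_mem h1 h2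
    | neg b _ h1 => rw [lie_neg]; exact U.neg_mem h1
  | zero => rw [zero_lie]; exact U.zero_mem
  | add a c _ _ h1 h2 => rw [add_lie]; exact U.add_mem h1 h2
  | neg a _ h1 => rw [neg_lie]; exact U.neg_mem h1

theorem lie_mem_left {S : Set M} {U : AddSubgroup M} {a b : M} (h : ∀ x ∈ S, ⁅x, b⁆ ∈ U)
    (ha : a ∈ closure S) : ⁅a, b⁆ ∈ U :=
  lie_mem_closure (T := {b}) (fun x hx y hy => by rw [hy]; exact h x hx) ha
    (subset_closure (Set.mem_singleton b))

theorem lie_lie_eq (x y z : M) : ⁅x, ⁅y, z⁆⁆ = ⁅⁅x, y⁆, z⁆ - ⁅⁅x, z⁆, y⁆ := by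
  rw [leibniz_lie x y z, ← lie_skew ⁅x, z⁆ y]
  abel

theorem mon_mem_gen {T : ZMod p → Set M} {i : ZMod p} {x : M} (h : Mon T i x) : x ∈ gen T i :=
  subset_closure h

theorem base_mem_gen {T : ZMod p → Set M} {i : ZMod p} {x : M} (h : x ∈ T i) : x ∈ gen T i :=
  mon_mem_gen (Mon.base h)

theorem gen_lie_base {T : ZMod p → Set M} {i j : ZMod p} {x y : M} (hx : x ∈ gen T i)
    (hy : y ∈ T j) : ⁅x, y⁆ ∈ gen2 T (i + j) :=
  lie_mem_left (fun u hu => subset_closure ⟨i, j, u, y, rfl, hu, hy, rfl⟩) hx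

theorem gen2_le_gen (T : ZMod p → Set M) (k : ZMod p) : gen2 T k ≤ gen T k := by
  refine (closure_le _).2 ?_
  rintro z ⟨a, b, u, c, rfl, hu, hc, rfl⟩
  exact mon_mem_gen (Mon.br hu hc)

/-- Brackets of the generated components are sums of monomials of length at least two. -/
theorem lie_gen {T : ZMod p → Set M} {i j : ZMod p} {x y : M} (hx : x ∈ gen T i)
    (hy : y ∈ gen T j) : ⁅x, y⁆ ∈ gen2 T (i + j) := by
  have key : ∀ (j : ZMod p) (v : M), Mon T j v → ∀ (i : ZMod p) (x : M), x ∈ gen T i →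
      ⁅x, v⁆ ∈ gen2 T (i + j) := by
    intro j v hv
    induction hv with
    | base hy => exact fun i x hx => gen_lie_base hx hy
    | @br a b u c _ hc ih =>
      intro i x hx
      rw [lie_lie_eq]
      refine sub_mem ?_ ?_
      · rw [← add_assoc]
        exact gen_lie_base (gen2_le_gen T _ (ih i x hx)) hc
      · have h1 := ih (i + b) ⁅x, c⁆ (gen2_le_gen T _ (gen_lie_base hx hc))
        rwa [add_assoc, add_comm b a] at h1
  exact lie_mem_closure (S := {u | Mon T i u}) (T := {v | Mon T j v})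
    (fun a ha b hb => key j b hb i a (mon_mem_gen ha)) hx hy

theorem gen_le {T : ZMod p → Set M} {F : ZMod p → AddSubgroup M} (hT : ∀ t, T t ⊆ F t)
    (hF : ∀ i j, ∀ a ∈ F i, ∀ b ∈ F j, ⁅a, b⁆ ∈ F (i + j)) (i : ZMod p) : gen T i ≤ F i := by
  refine (closure_le _).2 fun x hx => ?_
  induction hx with
  | base h => exact hT _ h
  | br _ h ih => exact hF _ _ _ ih _ (hT _ h)

/-- The hypotheses on a grading. -/
structure IsGrading (E : ZMod p → AddSubgroup M) : Prop where
  lie : ∀ i j, ∀ a ∈ E i, ∀ b ∈ E j, ⁅a, b⁆ ∈ E (i + j)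
  zero : E 0 = ⊥

variable {E : ZMod p → AddSubgroup M}

theorem der_succ_le (hE : IsGrading E) : ∀ (m : ℕ) (k : ZMod p), der E (m + 1) k ≤ der E m k
  | 0, k => by
    refine (closure_le _).2 ?_
    rintro z ⟨i, j, a, b, rfl, ha, hb, rfl⟩
    exact hE.lie i j a ha b hb
  | m + 1, k => by
    refine (closure_le _).2 ?_
    rintro z ⟨i, j, a, b, hk, ha, hb, rfl⟩
    exact subset_closure ⟨i, j, a, b, hk, der_succ_le hE m i ha, der_succ_le hE m j hb, rfl⟩

theorem der_anti (hE : IsGrading E) {m n : ℕ} (h : m ≤ n) (k : ZMod p) :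
    der E n k ≤ der E m k := by
  induction h with
  | refl => exact le_rfl
  | step _ ih => exact (der_succ_le hE _ k).trans ih

theorem isGrading_der (hE : IsGrading E) (m : ℕ) : IsGrading (der E m) where
  lie i j a ha b hb := der_succ_le hE m _ (subset_closure ⟨i, j, a, b, rfl, ha, hb, rfl⟩)
  zero := le_bot_iff.1 ((der_anti hE (Nat.zero_le m) 0).trans hE.zero.le)

variable [Fact p.Prime]

theorem val_ne_zero' {i : ZMod p} (h : i ≠ 0) : 0 < i.val :=
  Nat.pos_of_ne_zero fun h' => h ((ZMod.val_eq_zero i).1 h')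

/-- Kreknin's induction. -/
theorem der_le_gen_upper (hE : IsGrading E) : ∀ k, k < p → ∀ (m : ℕ) (i : ZMod p),
    der E (m + 2 ^ k - 1) i ≤ gen (upper E k m) i
  | 0, _, m, i => by
    intro x hx
    simp only [pow_zero, Nat.add_sub_cancel] at hx
    rcases eq_or_ne i 0 with rfl | hi
    · rw [(isGrading_der hE m).zero, mem_bot] at hx
      rw [hx]
      exact zero_mem _
    · exact base_mem_gen ⟨val_ne_zero' hi, hx⟩
  | k + 1, hk, m, i => by
    have hpk : ∀ (m : ℕ) (r : ZMod p), r.val = k + 1 →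
        der E (m + 2 ^ k) r ≤ gen (upper E (k + 1) m) r := by
      intro m r hr
      have h0 : m + 2 ^ k = (m + 2 ^ k - 1) + 1 := by
        have := Nat.one_le_two_pow (n := k); omega
      rw [h0]
      refine (closure_le _).2 ?_
      rintro z ⟨a, b, x, y, rfl, hx, hy, rfl⟩
      have ha := der_le_gen_upper hE k (by omega) m a hx
      have hb := der_le_gen_upper hE k (by omega) m b hy
      refine (AddSubgroup.closure_le _).2 ?_ (lie_gen ha hb)
      rintro z ⟨c, d, u, v, hcd, hu, ⟨hvd, hv⟩, rfl⟩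
      have hum : u ∈ der E m c :=
        gen_le (T := upper E k m) (fun t w hw => hw.2) (isGrading_der hE m).lie c (mon_mem_gen hu)
      rcases eq_or_ne c 0 with rfl | hc
      · rw [(isGrading_der hE m).zero, mem_bot] at hum
        rw [hum, zero_lie]
        exact zero_mem _
      · have hcv := val_ne_zero' hc
        have hsum : (c.val + d.val) % p = k + 1 := by
          rw [← ZMod.val_add, hcd, hr]
        have hclt := ZMod.val_lt c
        have hdlt := ZMod.val_lt d
        by_cases hge : c.val + d.val < p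
        · rw [Nat.mod_eq_of_lt hge] at hsum
          omega
        · have : c.val + d.val - p = k + 1 := by
            rw [← hsum, Nat.mod_eq_sub_mod (by omega), Nat.mod_eq_of_lt (by omega)]
          rw [← hcd]
          exact mon_mem_gen (Mon.br (Mon.base ⟨by omega, hum⟩) ⟨by omega, hv⟩)
    have hexp : m + 2 ^ (k + 1) - 1 = (m + 2 ^ k) + 2 ^ k - 1 := by
      rw [pow_succ]; omega
    rw [hexp]
    refine (der_le_gen_upper hE k (by omega) (m + 2 ^ k) i).trans (gen_le ?_ ?_ i)
    · rintro t w ⟨ht, hw⟩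
      rcases eq_or_lt_of_le (Nat.succ_le_of_lt ht) with h1 | h1
      · exact hpk m t h1.symm hw
      · exact base_mem_gen ⟨h1, der_anti hE (Nat.le_add_right m _) t hw⟩
    · exact fun a b x hx y hy => gen2_le_gen _ _ (lie_gen hx hy)

/-- **Kreknin's theorem**. -/
theorem der_eq_bot (hE : IsGrading E) (i : ZMod p) : der E (2 ^ (p - 1) - 1) i = ⊥ := by
  have hp := (Fact.out : p.Prime).two_le
  have h := der_le_gen_upper hE (p - 1) (by omega) 0 i
  rw [Nat.zero_add] at h
  refine le_bot_iff.1 (h.trans (gen_le (F := fun _ => ⊥) ?_ ?_ i))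
  · rintro t w ⟨ht, _⟩
    have := ZMod.val_lt t
    omega
  · intro a b x hx y _
    rw [mem_bot] at hx
    rw [hx, zero_lie]
    exact zero_mem _

/-! ### Nilpotency -/

variable (E) in
/-- The terms of the lower central series of the derived ring. -/
abbrev lcsDer (t : ℕ) (a : ZMod p) : AddSubgroup M := lcs (der E 1) t a

theorem lcs_lie {t : ℕ} {a b : ZMod p} {w x : M} (hw : w ∈ lcs E t a) (hx : x ∈ E b) :
    ⁅w, x⁆ ∈ lcs E (t + 1) (a + b) :=
  subset_closure ⟨a, b, w, x, rfl, hw, hx, rfl⟩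

theorem lcs_le (hE : IsGrading E) : ∀ (t : ℕ) (a : ZMod p), lcs E t a ≤ E a
  | 0, _ => le_rfl
  | t + 1, a => by
    refine (closure_le _).2 ?_
    rintro z ⟨i, j, x, y, rfl, hx, hy, rfl⟩
    exact hE.lie i j x (lcs_le hE t i hx) y hy

theorem lcs_succ_le (hE : IsGrading E) : ∀ (t : ℕ) (a : ZMod p), lcs E (t + 1) a ≤ lcs E t a
  | 0, a => lcs_le hE 1 a
  | t + 1, a => by
    refine (closure_le _).2 ?_
    rintro z ⟨i, j, x, y, rfl, hx, hy, rfl⟩
    exact lcs_lie (lcs_succ_le hE t i hx) hy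

/-- The lower central terms of the derived ring are ideals. -/
theorem lcsDer_lie (hE : IsGrading E) : ∀ (t : ℕ) (a b : ZMod p) (w x : M),
    w ∈ lcsDer E t a → x ∈ E b → ⁅w, x⁆ ∈ lcsDer E t (a + b)
  | 0, a, b, w, x, hw, hx =>
      subset_closure ⟨a, b, w, x, rfl, der_succ_le hE 0 a hw, hx, rfl⟩
  | t + 1, a, b, w, x, hw, hx => by
    refine lie_mem_left ?_ hw
    rintro z ⟨i, j, u, v, rfl, hu, hv, rfl⟩
    have h1 : ⁅⁅u, v⁆, x⁆ = ⁅⁅u, x⁆, v⁆ + ⁅u, ⁅v, x⁆⁆ := by
      rw [lie_lie_eq u v x]; abel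
    rw [h1]
    refine add_mem ?_ ?_
    · rw [show i + j + b = (i + b) + j by abel]
      exact lcs_lie (lcsDer_lie hE t i b u x hu hx) hv
    · rw [add_assoc]
      exact lcs_lie hu (subset_closure ⟨j, b, v, x, rfl, der_succ_le hE 0 j hv, hx, rfl⟩)

/-- Bracketing repeatedly on the right. -/
def fold (w : M) (l : List (ZMod p × M)) : M := l.foldl (fun u q => ⁅u, q.2⁆) w

/-- The degree of a list of homogeneous elements. -/
def deg (l : List (ZMod p × M)) : ZMod p := (l.map Prod.fst).sum

/-- The sums of sublists of degrees. -/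
def subsums : List (ZMod p × M) → Finset (ZMod p)
  | [] => {0}
  | q :: l => subsums l ∪ (subsums l).image (fun s => q.1 + s)

theorem fold_mem (hE : IsGrading E) {t : ℕ} : ∀ (l : List (ZMod p × M)) (a : ZMod p) (w : M),
    (∀ q ∈ l, q.2 ∈ E q.1) → w ∈ lcsDer E t a → fold w l ∈ lcsDer E t (a + deg l)
  | [], a, w, _, hw => by simpa [fold, deg] using hw
  | q :: l, a, w, hl, hw => by
    have := fold_mem hE l (a + q.1) ⁅w, q.2⁆ (fun r hr => hl r (List.mem_cons_of_mem _ hr))
      (lcsDer_lie hE t a q.1 w q.2 hw (hl q List.mem_cons_self))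
    simpa [fold, deg, add_assoc] using this

theorem fold_sub (v w : M) (l : List (ZMod p × M)) :
    fold (v - w) l = fold v l - fold w l := by
  induction l generalizing v w with
  | nil => rfl
  | cons q l ih =>
    show fold ⁅v - w, q.2⁆ l = fold ⁅v, q.2⁆ l - fold ⁅w, q.2⁆ l
    rw [sub_lie, ih]

theorem fold_swap (hE : IsGrading E) {t : ℕ} : ∀ (l : List (ZMod p × M)) (a b : ZMod p) (w x : M),
    (∀ q ∈ l, q.2 ∈ E q.1) → w ∈ lcsDer E t a → x ∈ E b →
    fold ⁅w, x⁆ l - ⁅fold w l, x⁆ ∈ lcsDer E (t + 1) (a + b + deg l)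
  | [], a, b, w, x, _, _, _ => by
    simp [fold]
  | q :: l, a, b, w, x, hl, hw, hx => by
    have hq : q.2 ∈ E q.1 := hl q List.mem_cons_self
    have hl' : ∀ r ∈ l, r.2 ∈ E r.1 := fun r hr => hl r (List.mem_cons_of_mem _ hr)
    show fold ⁅⁅w, x⁆, q.2⁆ l - ⁅fold ⁅w, q.2⁆ l, x⁆ ∈ _
    have h2 := fold_swap hE l (a + q.1) b ⁅w, q.2⁆ x hl' (lcsDer_lie hE t a q.1 w q.2 hw hq) hx
    have h3 : ⁅w, ⁅x, q.2⁆⁆ ∈ lcsDer E (t + 1) (a + (b + q.1)) :=
      lcs_lie hw (subset_closure ⟨b, q.1, x, q.2, rfl, hx, hq, rfl⟩)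
    have h4 := fold_mem hE l _ _ hl' h3
    have hdeg : deg (q :: l) = q.1 + deg l := by simp [deg]
    rw [hdeg]
    have e1 : a + q.1 + b + deg l = a + b + (q.1 + deg l) := by abel
    have e2 : a + (b + q.1) + deg l = a + b + (q.1 + deg l) := by abel
    rw [e1] at h2
    rw [e2, lie_lie_eq, fold_sub] at h4
    have := add_mem h4 h2
    convert this using 1
    abel

theorem card_subsums : ∀ (l : List (ZMod p × M)), (∀ q ∈ l, q.1 ≠ 0) →
    min p (l.length + 1) ≤ (subsums l).card
  | [], _ => by simp [subsums]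
  | q :: l, hl => by
    have ih := card_subsums l fun r hr => hl r (List.mem_cons_of_mem _ hr)
    have hq : q.1 ≠ 0 := hl q List.mem_cons_self
    rcases eq_or_ne (subsums l) Finset.univ with h | h
    · have : subsums (q :: l) = Finset.univ := by simp [subsums, h]
      rw [this, Finset.card_univ, ZMod.card]
      exact min_le_left _ _
    · have hlt : (subsums l).card < (subsums (q :: l)).card := by
        refine Finset.card_lt_card
          ((Finset.ssubset_iff_subset_ne).2 ⟨Finset.subset_union_left, fun heq => h ?_⟩)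
        have hclosed : ∀ s ∈ subsums l, q.1 + s ∈ subsums l := fun s hs =>
          heq.symm ▸ Finset.mem_union_right _ (Finset.mem_image_of_mem _ hs)
        obtain ⟨s, hs⟩ : (subsums l).Nonempty := by
          rw [← Finset.card_pos]
          have := (Fact.out : p.Prime).pos
          omega
        refine Finset.eq_univ_iff_forall.2 fun z => ?_
        have hn : ∀ n : ℕ, (n : ZMod p) * q.1 + s ∈ subsums l := by
          intro n
          induction n with
          | zero => simpa using hs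
          | succ n ih =>
            convert hclosed _ ih using 1
            push_cast; ring
        have h1 := hn ((z - s) * q.1⁻¹).val
        rwa [ZMod.natCast_zmod_val, mul_assoc, inv_mul_cancel₀ hq, mul_one, sub_add_cancel] at h1
      simp only [List.length_cons]
      omega

theorem fold_mem_succ (hE : IsGrading E) {t : ℕ} : ∀ (l : List (ZMod p × M)) (a : ZMod p) (w : M),
    (∀ q ∈ l, q.2 ∈ E q.1) → w ∈ lcsDer E t a → -a ∈ subsums l →
    fold w l ∈ lcsDer E (t + 1) (a + deg l)
  | [], a, w, _, hw, hs => by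
    have ha : a = 0 := by simpa [subsums] using hs
    subst ha
    have h0 : der E 1 (0 : ZMod p) = ⊥ := (isGrading_der hE 1).zero
    have : w ∈ (⊥ : AddSubgroup M) := h0 ▸ lcs_le (isGrading_der hE 1) t 0 hw
    rw [mem_bot] at this
    subst this
    simp [fold]
  | q :: l, a, w, hl, hw, hs => by
    have hq : q.2 ∈ E q.1 := hl q List.mem_cons_self
    have hl' : ∀ r ∈ l, r.2 ∈ E r.1 := fun r hr => hl r (List.mem_cons_of_mem _ hr)
    have hdeg : deg (q :: l) = q.1 + deg l := by simp [deg]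
    rw [hdeg]
    show fold ⁅w, q.2⁆ l ∈ _
    rcases Finset.mem_union.1 hs with h | h
    · have h1 := fold_mem_succ hE l a w hl' hw h
      have h2 := lcsDer_lie hE (t + 1) _ q.1 _ q.2 h1 hq
      have h3 := fold_swap hE l a q.1 w q.2 hl' hw hq
      have e1 : a + deg l + q.1 = a + (q.1 + deg l) := by abel
      rw [e1] at h2
      rw [add_assoc] at h3
      simpa using add_mem h3 h2
    · obtain ⟨s, hs1, hs2⟩ := Finset.mem_image.1 h
      have h1 : -(a + q.1) = s := by
        rw [neg_add, ← hs2]; abel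
      rw [← add_assoc]
      exact fold_mem_succ hE l (a + q.1) ⁅w, q.2⁆ hl' (lcsDer_lie hE t a q.1 w q.2 hw hq)
        (h1 ▸ hs1)

/-- The products of an element of `lcsDer t` with `r` homogeneous elements. -/
def spanFold (E : ZMod p → AddSubgroup M) (t r : ℕ) (c : ZMod p) : AddSubgroup M :=
  closure {z | ∃ (a : ZMod p) (w : M) (l : List (ZMod p × M)), l.length = r ∧
    (∀ q ∈ l, q.2 ∈ E q.1) ∧ w ∈ lcsDer E t a ∧ a + deg l = c ∧ z = fold w l}

theorem lcs_le_spanFold {t n : ℕ} (h : ∀ a, lcs E n a ≤ lcsDer E t a) :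
    ∀ r c, lcs E (n + r) c ≤ spanFold E t r c
  | 0, c => fun x hx => subset_closure ⟨c, x, [], rfl, by simp, h c hx, by simp [deg], rfl⟩
  | r + 1, c => by
    refine (closure_le _).2 ?_
    rintro z ⟨i, j, x, y, rfl, hx, hy, rfl⟩
    refine lie_mem_left ?_ (lcs_le_spanFold h r i hx)
    rintro z ⟨a, w, l, hlen, hl, hw, hdeg, rfl⟩
    refine subset_closure ⟨a, w, l ++ [(j, y)], by simp [hlen], ?_, hw, ?_, ?_⟩
    · intro q hq
      rcases List.mem_append.1 hq with h1 | h1
      · exact hl q h1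
      · rw [List.mem_singleton] at h1; rw [h1]; exact hy
    · rw [← hdeg]; simp [deg, add_assoc]
    · simp [fold, List.foldl_append]

/-- Higman's lemma. -/
theorem lcs_le_lcsDer (hE : IsGrading E) : ∀ (t : ℕ) (a : ZMod p),
    lcs E (1 + (p - 1) * t) a ≤ lcsDer E t a
  | 0, a => le_rfl
  | t + 1, a => by
    have hp := (Fact.out : p.Prime).two_le
    rw [show 1 + (p - 1) * (t + 1) = (1 + (p - 1) * t) + (p - 1) by ring]
    refine (lcs_le_spanFold (lcs_le_lcsDer hE t) (p - 1) a).trans ((closure_le _).2 ?_)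
    rintro z ⟨b, w, l, hlen, hl, hw, rfl, rfl⟩
    by_cases hz : ∀ q ∈ l, q.1 ≠ 0
    · refine fold_mem_succ hE l b w hl hw ?_
      have hc := card_subsums l hz
      rw [hlen, show p - 1 + 1 = p by omega, min_self] at hc
      have huniv : subsums l = Finset.univ :=
        Finset.eq_univ_of_card _ (le_antisymm (Finset.card_le_univ _) (by rwa [ZMod.card]))
      rw [huniv]
      exact Finset.mem_univ _
    · push Not at hz
      obtain ⟨q, hq, hq0⟩ := hz
      have hq2 : q.2 = 0 := by
        have := hl q hq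
        rwa [hq0, hE.zero, mem_bot] at this
      have hz' : ∀ (l : List (ZMod p × M)) (w : M), q ∈ l → fold w l = 0 := by
        intro l
        induction l with
        | nil => simp
        | cons r l ih =>
          intro w hr
          rcases List.mem_cons.1 hr with rfl | hr
          · show fold ⁅w, q.2⁆ l = 0
            rw [hq2, lie_zero]
            have := fold_sub (w := (0 : M)) (v := 0) (l := l)
            simpa using this
          · exact ih _ hr
      rw [hz' l w hq]
      exact zero_mem _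

/-- The Higman-Kreknin-Kostrikin bound for the class. -/
def bound (p n : ℕ) : ℕ := ∑ i ∈ Finset.range n, (p - 1) ^ i

theorem lcs_eq_bot_of_der_eq_bot : ∀ (n : ℕ) (E : ZMod p → AddSubgroup M), IsGrading E →
    (∀ a, der E n a = ⊥) → ∀ a, lcs E (bound p n) a = ⊥
  | 0, E, _, h => fun a => by
    simpa [bound] using! h a
  | n + 1, E, hE, h => fun a => by
    have hd : ∀ (m : ℕ) (a : ZMod p), der (der E 1) m a = der E (m + 1) a := by
      intro m
      induction m with
      | zero => exact fun a => rfl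
      | succ m ih =>
        intro a
        conv_lhs => rw [der]
        conv_rhs => rw [der]
        rw [funext ih]
    have h1 := lcs_eq_bot_of_der_eq_bot n (der E 1) (isGrading_der hE 1)
      fun a => (hd n a).trans (h a)
    have hb : bound p (n + 1) = 1 + (p - 1) * bound p n := by
      simp [bound, geom_sum_succ, add_comm]
    rw [hb]
    exact le_bot_iff.1 ((lcs_le_lcsDer hE _ a).trans (h1 a).le)

/-- **Higman-Kreknin-Kostrikin**. -/
theorem lcs_bound_eq_bot (hE : IsGrading E) (a : ZMod p) :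
    lcs E (bound p (2 ^ (p - 1) - 1)) a = ⊥ :=
  lcs_eq_bot_of_der_eq_bot _ E hE (der_eq_bot hE) a

theorem zmod_two_cases (i : ZMod 2) : i = 0 ∨ i = 1 := by
  revert i; decide

theorem lcs_one_eq_bot_of_two {E : ZMod 2 → AddSubgroup M} (hE : IsGrading E) (a : ZMod 2) :
    lcs E 1 a = ⊥ := by
  refine le_bot_iff.1 ((closure_le _).2 ?_)
  rintro z ⟨i, j, x, y, rfl, hx, hy, rfl⟩
  rw [SetLike.mem_coe]
  rcases zmod_two_cases i with rfl | rfl
  · rw [lcs, hE.zero, mem_bot] at hx
    simp [hx]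
  rcases zmod_two_cases j with rfl | rfl
  · rw [hE.zero, mem_bot] at hy
    simp [hy]
  · rw [← hE.zero]
    exact hE.lie 1 1 x hx y hy

theorem lcs_two_eq_bot_of_three {E : ZMod 3 → AddSubgroup M} (hE : IsGrading E) (a : ZMod 3) :
    lcs E 2 a = ⊥ := by
  have hz : ∀ (i : ZMod 3) (x : M), x ∈ E i → i = 0 → x = 0 := fun i x hx h => by
    subst h; rwa [hE.zero, mem_bot] at hx
  refine le_bot_iff.1 ((closure_le _).2 ?_)
  rintro z ⟨i, j, x, y, rfl, hx, hy, rfl⟩
  refine lie_mem_left ?_ hx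
  rintro z ⟨b, c, u, v, rfl, hu, hv, rfl⟩
  rw [mem_bot]
  by_cases hu0 : b = 0
  · rw [hz b u hu hu0, zero_lie, zero_lie]
  by_cases hv0 : c = 0
  · rw [hz c v hv hv0, lie_zero, zero_lie]
  by_cases hy0 : j = 0
  · rw [hz j y hy hy0, lie_zero]
  by_cases hbc : b + c = 0
  · rw [hz _ _ (hE.lie b c u hu v hv) hbc, zero_lie]
  by_cases hall : b + c + j = 0
  · exact hz _ _ (hE.lie _ _ _ (hE.lie b c u hu v hv) _ hy) hall
  have key : ∀ b c j : ZMod 3, b ≠ 0 → c ≠ 0 → j ≠ 0 → b + c ≠ 0 → b + c + j ≠ 0 →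
      b + j = 0 ∧ c + j = 0 := by decide
  obtain ⟨hbj, hcj⟩ := key b c j hu0 hv0 hy0 hbc hall
  have h1 : ⁅⁅u, v⁆, y⁆ = ⁅⁅u, y⁆, v⁆ + ⁅u, ⁅v, y⁆⁆ := by
    rw [lie_lie_eq u v y]; abel
  rw [h1, hz _ _ (hE.lie b j u hu y hy) hbj, hz _ _ (hE.lie c j v hv y hy) hcj, zero_lie,
    lie_zero, add_zero]

end CfsgLib.Higman
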