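import Mathlib
import Cfsg.Agent.Lib.Higman.Kreknin
import Cfsg.Agent.Lib.Higman.LowerCentralLie
import Cfsg.Agent.S0033

/-!
# The class of a group with a fixed point free automorphism of prime order
-/

set_option autoImplicit false
set_option linter.unusedSectionVars false

namespace CfsgLib.Higman

-- the bracket of `A ⊗ L` is taken from its Lie ring structure
attribute [-instance] LieAlgebra.ExtendScalars.instBracketTensorProduct

open TensorProduct Finset
open scoped commutatorElement

variable {G : Type*} [Group G] [Finite G] {p : ℕ} [Fact p.Prime] (α : MulAut G)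

theorem not_dvd_card_of_fpf (hα : orderOf α = p) (hfpf : ∀ g : G, α g = g → g = 1) :
    ¬ p ∣ Nat.card G := by
  intro hdvd
  have hpg : IsPGroup p (Subgroup.zpowers α) :=
    IsPGroup.of_card (n := 1) (by rw [Nat.card_zpowers, hα, pow_one])
  obtain ⟨b, hb, hne⟩ := hpg.exists_fixed_point_of_prime_dvd_card_of_fixed_point G hdvd
    (a := 1) (fun σ => map_one (σ : MulAut G))
  exact hne (hfpf b (hb ⟨α, Subgroup.mem_zpowers α⟩)).symm

theorem mem_of_map_inv_mul_mem {i : ℕ} (hfpf : ∀ g : G, α g = g → g = 1) {g : G}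
    (hg : g⁻¹ * α g ∈ gam G i) : g ∈ gam G i := by
  have hinj : ∀ a b : G, a⁻¹ * α a = b⁻¹ * α b → a = b := by
    intro a b h
    have h' : α (a * b⁻¹) = a * b⁻¹ := by
      rw [map_mul, map_inv, mul_inv_eq_iff_eq_mul]
      calc α a = a * (a⁻¹ * α a) := by group
        _ = a * (b⁻¹ * α b) := by rw [h]
        _ = a * b⁻¹ * α b := by group
    exact mul_inv_eq_one.1 (hfpf _ h')
  let f : gam G i → gam G i := fun n =>
    ⟨(n : G)⁻¹ * α n, mul_mem (inv_mem n.2) (apply_mem_gam α n.2)⟩
  have hf : Function.Surjective f := Finite.surjective_of_injective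
    fun a b h => Subtype.ext (hinj a b (congrArg Subtype.val h))
  obtain ⟨n, hn⟩ := hf ⟨_, hg⟩
  exact hinj _ _ (congrArg Subtype.val hn) ▸ n.2

omit [Finite G] [Fact p.Prime] in
theorem iterate_grMap_el {i : ℕ} {g : G} (hg : g ∈ gam G i) :
    ∀ k : ℕ, (grMap α)^[k] (el i g) = el i ((α ^ k : MulAut G) g)
  | 0 => rfl
  | k + 1 => by
    rw [Function.iterate_succ_apply', iterate_grMap_el hg k, grMap_el α (apply_mem_gam _ hg),
      pow_succ', MulAut.mul_apply]

omit [Finite G] [Fact p.Prime] in
theorem iterate_grMap_self (hα : orderOf α = p) (x : Gr G) : (grMap α)^[p] x = x := by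
  induction x using gr_induction with
  | zero => exact iterate_map_zero _ _
  | mem i g hg => rw [iterate_grMap_el α hg, ← hα, pow_orderOf_eq_one]; rfl
  | add x y hx hy => rw [iterate_map_add, hx, hy]

theorem sum_iterate_grMap (hα : orderOf α = p) (hfpf : ∀ g : G, α g = g → g = 1) (x : Gr G) :
    ∑ k ∈ range p, (grMap α)^[k] x = 0 := by
  induction x using gr_induction with
  | zero => exact sum_eq_zero fun k _ => iterate_map_zero _ _
  | add x y hx hy => simp only [iterate_map_add, sum_add_distrib, hx, hy, add_zero]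
  | mem i g hg =>
    have hsum : ∀ n, ∃ h ∈ gam G i, el i h = ∑ k ∈ range n, (grMap α)^[k] (el i g) := by
      intro n
      induction n with
      | zero => exact ⟨1, one_mem _, by simp [el_one]⟩
      | succ n ih =>
        obtain ⟨h, hh, e⟩ := ih
        have hn := apply_mem_gam (α ^ n) hg
        exact ⟨h * (α ^ n : MulAut G) g, mul_mem hh hn,
          by rw [el_mul hh hn, e, sum_range_succ, iterate_grMap_el α hg]⟩
    obtain ⟨h, hh, e⟩ := hsum p
    have hfix : grMap α (el i h) = el i h := by
      rw [e, map_sum]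
      have h1 := sum_range_succ' (fun k => (grMap α)^[k] (el i g)) p
      rw [sum_range_succ, iterate_grMap_self α hα, Function.iterate_zero_apply] at h1
      simpa [Function.iterate_succ_apply'] using (add_right_cancel h1).symm
    rw [grMap_el α hh] at hfix
    have h2 : el i (h⁻¹ * α h) = 0 := by
      rw [el_mul (inv_mem hh) (apply_mem_gam α hh), el_inv hh, hfix, neg_add_cancel]
    rw [← e]
    exact el_of_mem_succ
      (mem_of_map_inv_mul_mem α hfpf
        ((el_eq_zero_iff (mul_mem (inv_mem hh) (apply_mem_gam α hh))).1 h2))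

omit [Finite G] [Fact p.Prime] in
theorem card_nsmul_gr (x : Gr G) : Nat.card G • x = 0 := by
  induction x using gr_induction with
  | zero => exact smul_zero _
  | add x y hx hy => rw [smul_add, hx, hy, add_zero]
  | mem i g hg =>
    have : ∀ n : ℕ, el i (g ^ n) = n • el i g := by
      intro n
      induction n with
      | zero => rw [pow_zero, el_one, zero_smul]
      | succ n ih => rw [pow_succ, el_mul (pow_mem hg n) hg, ih, succ_nsmul]
    rw [← this, pow_card_eq_one', el_one]

variable (p) in
/-- The ring of cyclotomic integers. -/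
abbrev CycInt : Type := AdjoinRoot (Polynomial.cyclotomic p ℤ)

variable (p) in
/-- A primitive root of unity. -/
noncomputable def omg : CycInt p := AdjoinRoot.root _

theorem sum_omg : ∑ i ∈ range p, omg p ^ i = 0 := by
  have h := AdjoinRoot.eval₂_root (Polynomial.cyclotomic p ℤ)
  have e := congrArg (Polynomial.eval₂ (AdjoinRoot.of (Polynomial.cyclotomic p ℤ))
    (AdjoinRoot.root (Polynomial.cyclotomic p ℤ))) (Polynomial.cyclotomic_prime ℤ p)
  rw [h, Polynomial.eval₂_finsetSum] at e
  simpa [omg] using e.symm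

theorem omg_pow_self : omg p ^ p = 1 := by
  have h := geom_sum_mul (omg p) p
  rw [sum_omg, zero_mul] at h
  exact sub_eq_zero.1 h.symm

/-- The additive character `z ↦ ω ^ z`. -/
noncomputable def chr (z : ZMod p) : CycInt p := omg p ^ z.val

theorem chr_add (a b : ZMod p) : chr (a + b) = chr a * chr b := by
  rw [chr, chr, chr, ← pow_add, ZMod.val_add, ← pow_eq_pow_mod _ omg_pow_self]

theorem sum_chr : ∑ z : ZMod p, chr z = 0 := by
  rw [← sum_omg (p := p)]
  refine Finset.sum_nbij' ZMod.val (fun i => (i : ZMod p)) ?_ ?_ ?_ ?_ ?_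
  · exact fun z _ => mem_range.2 (ZMod.val_lt z)
  · exact fun i _ => mem_univ _
  · exact fun z _ => ZMod.natCast_zmod_val z
  · exact fun i hi => ZMod.val_cast_of_lt (mem_range.1 hi)
  · exact fun z _ => rfl

theorem sum_chr_mul {z : ZMod p} (hz : z ≠ 0) : ∑ k : ZMod p, chr (k * z) = 0 := by
  rw [← sum_chr (p := p)]
  exact Fintype.sum_equiv (Equiv.mulRight₀ z hz) _ _ fun k => rfl

/-- Extension of scalars of the Lie ring. -/
abbrev Ext (G : Type*) [Group G] (p : ℕ) : Type _ := CycInt p ⊗[ℤ] Gr G

theorem ext_bracket_tmul (a b : CycInt p) (u v : Gr G) :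
    ⁅(a ⊗ₜ[ℤ] u : Ext G p), (b ⊗ₜ[ℤ] v : Ext G p)⁆ = (a * b) ⊗ₜ ⁅u, v⁆ := rfl

theorem ext_lie_smul (c : CycInt p) (x y : Ext G p) : ⁅x, c • y⁆ = c • ⁅x, y⁆ := by
  induction x using TensorProduct.induction_on with
  | zero => simp
  | tmul a u =>
    induction y using TensorProduct.induction_on with
    | zero => simp
    | tmul b v =>
      rw [TensorProduct.smul_tmul', ext_bracket_tmul, ext_bracket_tmul, TensorProduct.smul_tmul',
        smul_eq_mul, smul_eq_mul, mul_left_comm]
    | add y w hy hw => rw [smul_add, lie_add, hy, hw, lie_add, smul_add]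
  | add x w hx hw => rw [add_lie, add_lie, hx, hw, smul_add]

theorem ext_smul_lie (c : CycInt p) (x y : Ext G p) : ⁅c • x, y⁆ = c • ⁅x, y⁆ := by
  rw [← lie_skew, ext_lie_smul, ← smul_neg, lie_skew]

variable (p) in
/-- The extended automorphism. -/
noncomputable def extMap : Ext G p →ₗ[CycInt p] Ext G p :=
  LinearMap.baseChange (CycInt p) (grMap α).toIntLinearMap

theorem extMap_lie (x y : Ext G p) : extMap p α ⁅x, y⁆ = ⁅extMap p α x, extMap p α y⁆ := by
  induction x using TensorProduct.induction_on with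
  | zero => simp
  | tmul a u =>
    induction y using TensorProduct.induction_on with
    | zero => simp
    | tmul b v =>
      simp [extMap, grMap_lie]
    | add y w hy hw => rw [lie_add, map_add, hy, hw, map_add, lie_add]
  | add x w hx hw => rw [add_lie, map_add, hx, hw, map_add, add_lie]

theorem pow_extMap_tmul (k : ℕ) (a : CycInt p) (u : Gr G) :
    (extMap p α ^ k) (a ⊗ₜ u) = a ⊗ₜ ((grMap α)^[k] u) := by
  induction k with
  | zero => rfl
  | succ k ih =>
    rw [pow_succ', Module.End.mul_apply, ih, Function.iterate_succ_apply']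
    simp [extMap]

theorem pow_extMap_self (hα : orderOf α = p) : extMap p α ^ p = 1 := by
  refine LinearMap.ext fun x => ?_
  induction x using TensorProduct.induction_on with
  | zero => simp
  | tmul a u => rw [pow_extMap_tmul, iterate_grMap_self α hα]; rfl
  | add x y hx hy => rw [map_add, map_add, hx, hy]

theorem sum_pow_extMap (hα : orderOf α = p) (hfpf : ∀ g : G, α g = g → g = 1) (x : Ext G p) :
    ∑ k ∈ range p, (extMap p α ^ k) x = 0 := by
  induction x using TensorProduct.induction_on with
  | zero => simp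
  | tmul a u =>
    simp only [pow_extMap_tmul, ← TensorProduct.tmul_sum, sum_iterate_grMap α hα hfpf,
      TensorProduct.tmul_zero]
  | add x y hx hy => simp only [map_add, sum_add_distrib, hx, hy, add_zero]

theorem card_zsmul_ext (x : Ext G p) : (Nat.card G : ℤ) • x = 0 := by
  induction x using TensorProduct.induction_on with
  | zero => simp
  | tmul a u => rw [← TensorProduct.tmul_smul, natCast_zsmul, card_nsmul_gr, TensorProduct.tmul_zero]
  | add x y hx hy => rw [smul_add, hx, hy, add_zero]

theorem exists_inv_p (hα : orderOf α = p) (hfpf : ∀ g : G, α g = g → g = 1) :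
    ∃ q : ℤ, ∀ x : Ext G p, q • ((p : ℤ) • x) = x := by
  have hc : Nat.Coprime p (Nat.card G) :=
    (Fact.out : p.Prime).coprime_iff_not_dvd.2 (not_dvd_card_of_fpf α hα hfpf)
  obtain ⟨a, b, hab⟩ := (Int.isCoprime_iff_nat_coprime (a := (p : ℤ)) (b := (Nat.card G : ℤ))).2
    (by simpa using hc)
  refine ⟨a, fun x => ?_⟩
  have := congrArg (fun n : ℤ => n • x) hab
  simp only [add_smul, mul_smul, card_zsmul_ext, smul_zero, add_zero, one_smul] at this
  exact this

variable (p) in
/-- The eigenspaces. -/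
noncomputable def eig (k : ZMod p) : AddSubgroup (Ext G p) :=
  (LinearMap.ker (extMap p α - chr k • LinearMap.id)).toAddSubgroup

theorem mem_eig {k : ZMod p} {x : Ext G p} : x ∈ eig p α k ↔ extMap p α x = chr k • x := by
  simp [eig, sub_eq_zero]

theorem isGrading_eig (hα : orderOf α = p) (hfpf : ∀ g : G, α g = g → g = 1) :
    IsGrading (eig p α) where
  lie i j a ha b hb := by
    rw [mem_eig] at ha hb ⊢
    rw [extMap_lie, ha, hb, ext_smul_lie, ext_lie_smul, smul_smul, chr_add]
  zero := by
    refine (AddSubgroup.eq_bot_iff_forall _).2 fun x hx => ?_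
    rw [mem_eig, chr, ZMod.val_zero, pow_zero, one_smul] at hx
    have hk : ∀ k : ℕ, (extMap p α ^ k) x = x := by
      intro k
      induction k with
      | zero => rfl
      | succ k ih => rw [pow_succ', Module.End.mul_apply, ih, hx]
    have h := sum_pow_extMap α hα hfpf x
    simp only [hk, sum_const, card_range] at h
    obtain ⟨q, hq⟩ := exists_inv_p α hα hfpf
    rw [← hq x, natCast_zsmul, h, smul_zero]

theorem mem_iSup_eig (hα : orderOf α = p) (hfpf : ∀ g : G, α g = g → g = 1) (x : Ext G p) :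
    x ∈ ⨆ k, eig p α k := by
  obtain ⟨q, hq⟩ := exists_inv_p α hα hfpf
  let w : ZMod p → Ext G p := fun k =>
    ∑ z : ZMod p, chr (k * -z) • ((extMap p α ^ z.val) x)
  have hw : ∀ k, w k ∈ eig p α k := by
    intro k
    rw [mem_eig]
    simp only [w, map_sum, smul_sum, map_smul, smul_smul]
    refine Fintype.sum_equiv (Equiv.addRight (1 : ZMod p)) _ _ fun z => ?_
    rw [← chr_add, Equiv.coe_addRight, show k + k * -(z + 1) = k * -z by ring]
    congr 1
    rw [← Module.End.mul_apply, ← pow_succ', ZMod.val_add, ZMod.val_one,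
      ← pow_eq_pow_mod _ (pow_extMap_self α hα)]
  have hsum : ∑ k, w k = (p : ℤ) • x := by
    simp only [w]
    rw [Finset.sum_comm, Fintype.sum_eq_single (0 : ZMod p)]
    · simp [chr, natCast_zsmul, ZMod.card]
    · intro z hz
      rw [← sum_smul, sum_chr_mul (neg_ne_zero.2 hz), zero_smul]
  rw [← hq x, ← hsum]
  exact zsmul_mem (sum_mem fun k _ => le_iSup (eig p α) k (hw k)) q

theorem tmul_el_mem (hα : orderOf α = p) (hfpf : ∀ g : G, α g = g → g = 1) :
    ∀ (r : ℕ) (g : G), g ∈ gam G r →
      (1 : CycInt p) ⊗ₜ[ℤ] el r g ∈ ⨆ k, lcs (eig p α) r k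
  | 0, g, _ => mem_iSup_eig α hα hfpf _
  | r + 1, g, hg => by
    set U := ⨆ k, lcs (eig p α) (r + 1) k
    suffices g ∈ gam G (r + 1) ∧ (1 : CycInt p) ⊗ₜ[ℤ] el (r + 1) g ∈ U from this.2
    rw [gam_succ, Subgroup.commutator_def] at hg
    induction hg using Subgroup.closure_induction with
    | mem z hz =>
      obtain ⟨a, ha, b, hb, rfl⟩ := hz
      refine ⟨Subgroup.commutator_mem_commutator ha hb, ?_⟩
      have he : (1 : CycInt p) ⊗ₜ[ℤ] el (r + 1) ⁅a, b⁆ =
          ⁅(1 : CycInt p) ⊗ₜ[ℤ] el r a, (1 : CycInt p) ⊗ₜ[ℤ] el 0 b⁆ := by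
        rw [ext_bracket_tmul, one_mul, lie_el_el ha hb]
      rw [he]
      have h1 := tmul_el_mem hα hfpf r a ha
      have h2 := mem_iSup_eig α hα hfpf ((1 : CycInt p) ⊗ₜ[ℤ] el 0 b)
      rw [AddSubgroup.iSup_eq_closure] at h1 h2
      refine lie_mem_closure ?_ h1 h2
      rintro u hu v hv
      obtain ⟨i, hi⟩ := Set.mem_iUnion.1 hu
      obtain ⟨j, hj⟩ := Set.mem_iUnion.1 hv
      exact le_iSup (fun k => lcs (eig p α) (r + 1) k) (i + j) (lcs_lie hi hj)
    | one => exact ⟨one_mem _, by rw [el_one, TensorProduct.tmul_zero]; exact zero_mem _⟩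
    | mul a b _ _ ha hb =>
      exact ⟨mul_mem ha.1 hb.1, by
        rw [el_mul ha.1 hb.1, TensorProduct.tmul_add]; exact add_mem ha.2 hb.2⟩
    | inv a _ ha =>
      exact ⟨inv_mem ha.1, by
        rw [el_inv ha.1, TensorProduct.tmul_neg]; exact neg_mem ha.2⟩

theorem one_tmul_injective : Function.Injective fun x : Gr G => (1 : CycInt p) ⊗ₜ[ℤ] x := by
  have hp := (Fact.out : p.Prime)
  let pb := AdjoinRoot.powerBasis' (Polynomial.cyclotomic.monic p ℤ)
  have hdim : 0 < pb.dim := by
    simp only [pb, AdjoinRoot.powerBasis'_dim, Polynomial.natDegree_cyclotomic]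
    exact Nat.totient_pos.2 hp.pos
  let φ : CycInt p →ₗ[ℤ] ℤ := pb.basis.coord ⟨0, hdim⟩
  have hφ : φ 1 = 1 := by
    have h1 : pb.basis ⟨0, hdim⟩ = 1 := by rw [PowerBasis.coe_basis]; simp
    rw [← h1]; exact (Module.Basis.coord_apply _ _ _).trans (by rw [Module.Basis.repr_self, Finsupp.single_eq_same])
  refine Function.LeftInverse.injective
    (g := fun v => TensorProduct.lid ℤ (Gr G) (LinearMap.rTensor (Gr G) φ v)) fun x => ?_
  simp [hφ]

/-- If the components of the `r`-th term vanish, so does the `r`-th term of the group. -/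
theorem gam_eq_bot (hα : orderOf α = p) (hfpf : ∀ g : G, α g = g → g = 1) {r : ℕ}
    (h : ∀ k, lcs (eig p α) r k = ⊥) : gam G r = ⊥ := by
  have hle : gam G r ≤ gam G (r + 1) := fun g hg => by
    refine (el_eq_zero_iff hg).1 (one_tmul_injective (p := p) ?_)
    have := tmul_el_mem α hα hfpf r g hg
    simp only [h, iSup_bot, AddSubgroup.mem_bot] at this
    simp only [TensorProduct.tmul_zero]
    exact this
  have hst : ∀ t, gam G r ≤ gam G (r + t) := by
    intro t
    induction t with
    | zero => exact le_rfl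
    | succ t ih =>
      refine hle.trans ?_
      rw [gam_succ, show r + (t + 1) = (r + t) + 1 from rfl, gam_succ]
      exact Subgroup.commutator_mono ih le_rfl
  have : Group.IsNilpotent G :=
    Cfsg.Agent.S0033.result α (fun g hg => hfpf g hg) p Fact.out hα
  obtain ⟨n, hn⟩ := Subgroup.nilpotent_iff_lowerCentralSeries.1 this
  exact le_bot_iff.1 ((hst n).trans ((gam_anti (Nat.le_add_left n r)).trans hn.le))

theorem gam_bound_eq_bot (hα : orderOf α = p) (hfpf : ∀ g : G, α g = g → g = 1) :
    gam G (bound p (2 ^ (p - 1) - 1)) = ⊥ :=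
  gam_eq_bot α hα hfpf fun k => lcs_bound_eq_bot (isGrading_eig α hα hfpf) k

end CfsgLib.Higman
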